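import Groth.Agent.AnStalkLib.StalkMap
import Groth.Prelude.Def_AnHol
import Mathlib.Algebra.Category.ModuleCat.Stalk
import Mathlib.Algebra.Category.ModuleCat.ChangeOfRings
import Mathlib.CategoryTheory.Adjunction.Mates

/-!
# Stalks of modules over the sheaf of holomorphic functions, and skyscraper modules
-/

set_option autoImplicit false
set_option linter.style.haveILetI false
set_option backward.isDefEq.respectTransparency.types false
set_option backward.isDefEq.respectTransparency false

open CategoryTheory CategoryTheory.Limits AlgebraicGeometry TopologicalSpace Opposite An AnStalkLib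

noncomputable section

namespace AnModLib

variable {X : Scheme.{0}} [X.Over SC] (p : top X)

/-- The ring of germs of holomorphic functions. -/
abbrev hR : CommRingCat.{0} := (holPresheaf X).stalk p

/-- The underlying presheaf of abelian groups. -/
abbrev psh (N : AnMod X) : TopCat.Presheaf Ab.{0} (top X) := N.val.presheaf

/-- Sections. -/
abbrev Sec (N : AnMod X) (U : Opens (top X)) : Type := (psh N).obj (op U)

instance secModule (N : AnMod X) (U : Opens (top X)) :
    Module ((holPresheaf X).obj (op U)) (Sec N U) :=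
  (N.val.obj (op U)).isModule

/-- The stalk of a module as a module over the ring of germs. -/
instance stalkModule (N : AnMod X) : Module (hR p) ((psh N).stalk p) :=
  inferInstanceAs (Module ((holPresheaf X).stalk p)
    (TopCat.Presheaf.stalk (C := Ab.{0}) (X := top X) (show PresheafOfModules (holPresheaf X ⋙ forget₂ CommRingCat RingCat) from N.val).presheaf p))

theorem germ_smul (N : AnMod X) (U : Opens (top X)) (hp : p ∈ U) (r : (holPresheaf X).obj (op U)) (s : Sec N U) :
    (psh N).germ U p hp (r • s) = (holPresheaf X).germ U p hp r • (psh N).germ U p hp s :=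
  PresheafOfModules.germ_smul (R := holPresheaf X)
    (show PresheafOfModules (holPresheaf X ⋙ forget₂ CommRingCat RingCat) from N.val) p U hp r s

/-- The components of a map of modules. -/
def app {M N : AnMod X} (φ : M ⟶ N) (U : Opens (top X)) : Sec M U → Sec N U :=
  fun s => (φ.val.app (op U)).hom s

theorem app_smul {M N : AnMod X} (φ : M ⟶ N) (U : Opens (top X)) (r : (holPresheaf X).obj (op U)) (s : Sec M U) :
    app φ U (r • s) = r • app φ U s :=
  (φ.val.app (op U)).hom.map_smul r s

/-- The map of stalks. -/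
def stalkMapAb {M N : AnMod X} (φ : M ⟶ N) : (psh M).stalk p ⟶ (psh N).stalk p :=
  (TopCat.Presheaf.stalkFunctor Ab p).map ((PresheafOfModules.toPresheaf _).map φ.val)

theorem stalkMapAb_germ {M N : AnMod X} (φ : M ⟶ N) (U : Opens (top X)) (hp : p ∈ U) (s : Sec M U) :
    stalkMapAb p φ ((psh M).germ U p hp s) = (psh N).germ U p hp (app φ U s) :=
  TopCat.Presheaf.stalkFunctor_map_germ_apply U p hp _ s

theorem stalk_exists (N : AnMod X) (m : (psh N).stalk p) :
    ∃ (U : Opens (top X)) (hp : p ∈ U) (s : Sec N U), (psh N).germ U p hp s = m :=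
  TopCat.Presheaf.germ_exist (psh N) m

theorem stalkMapAb_smul {M N : AnMod X} (φ : M ⟶ N) (r : hR p) (m : (psh M).stalk p) :
    stalkMapAb p φ (r • m) = r • stalkMapAb p φ m := by
  obtain ⟨U, hU, a, rfl⟩ := TopCat.Presheaf.germ_exist (holPresheaf X) r
  obtain ⟨V, hV, s, rfl⟩ := stalk_exists p M m
  have hW : p ∈ U ⊓ V := ⟨hU, hV⟩
  rw [← TopCat.Presheaf.germ_res_apply (holPresheaf X) (homOfLE (inf_le_left : U ⊓ V ≤ U)) p hW a,
    ← TopCat.Presheaf.germ_res_apply (psh M) (homOfLE (inf_le_right : U ⊓ V ≤ V)) p hW s,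
    ← germ_smul p M (U ⊓ V) hW, stalkMapAb_germ, stalkMapAb_germ, app_smul, germ_smul]

variable (X) in
/-- The stalk functor. -/
def stalkF : AnMod X ⥤ ModuleCat.{0} (hR p) where
  obj N := ModuleCat.of (hR p) ((psh N).stalk p)
  map φ := ModuleCat.ofHom
    { toFun := stalkMapAb p φ
      map_add' := fun a b => map_add (stalkMapAb p φ).hom a b
      map_smul' := fun r m => stalkMapAb_smul p φ r m }
  map_id N := by
    ext m
    obtain ⟨U, hU, s, rfl⟩ := stalk_exists p N m
    exact stalkMapAb_germ p (𝟙 N) U hU s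
  map_comp {L M N} φ ψ := by
    ext m
    obtain ⟨U, hU, s, rfl⟩ := stalk_exists p L m
    exact (stalkMapAb_germ p (φ ≫ ψ) U hU s).trans
      (((congrArg (stalkMapAb p ψ) (stalkMapAb_germ p φ U hU s)).trans (stalkMapAb_germ p ψ U hU _)).symm)

theorem stalkF_map_germ {M N : AnMod X} (φ : M ⟶ N) (U : Opens (top X)) (hp : p ∈ U) (s : Sec M U) :
    ((stalkF X p).map φ).hom ((psh M).germ U p hp s) = (psh N).germ U p hp (app φ U s) :=
  stalkMapAb_germ p φ U hp s

theorem hom_ext' {M N : AnMod X} {φ ψ : M ⟶ N} (h : ∀ U s, app φ U s = app ψ U s) : φ = ψ := by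
  apply SheafOfModules.Hom.ext
  apply PresheafOfModules.hom_ext
  intro U
  ext s
  exact h U.unop s

variable (A : ModuleCat.{0} (hR p))

/-- Sections of the skyscraper. -/
abbrev SkySec (U : Opens (top X)) : Type := PLift (p ∈ U) → A

instance skySMul (U : (Opens (top X))ᵒᵖ) : SMul ((holRing X).obj.obj U) (SkySec p A U.unop) :=
  ⟨fun r f h => ((holPresheaf X).germ U.unop p h.down (show (holPresheaf X).obj U from r)) • f h⟩

theorem skySMul_def (U : (Opens (top X))ᵒᵖ) (r : (holRing X).obj.obj U) (f : SkySec p A U.unop)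
    (h : PLift (p ∈ U.unop)) :
    (r • f) h = ((holPresheaf X).germ U.unop p h.down (show (holPresheaf X).obj U from r)) • f h := rfl

instance skyModule (U : (Opens (top X))ᵒᵖ) : Module ((holRing X).obj.obj U) (SkySec p A U.unop) where
  one_smul f := funext fun h => by
    rw [skySMul_def]
    exact (congrArg (· • f h) (map_one ((holPresheaf X).germ U.unop p h.down).hom)).trans (one_smul _ _)
  mul_smul r s f := funext fun h => by
    rw [skySMul_def, skySMul_def, skySMul_def]
    exact (congrArg (· • f h) (map_mul ((holPresheaf X).germ U.unop p h.down).hom r s)).trans (mul_smul _ _ _)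
  smul_zero r := funext fun h => smul_zero ((holPresheaf X).germ U.unop p h.down r)
  smul_add r f g := funext fun h => smul_add ((holPresheaf X).germ U.unop p h.down r) (f h) (g h)
  add_smul r s f := funext fun h => by
    rw [Pi.add_apply, skySMul_def, skySMul_def, skySMul_def]
    exact (congrArg (· • f h) (map_add ((holPresheaf X).germ U.unop p h.down).hom r s)).trans (add_smul _ _ _)
  zero_smul f := funext fun h => by
    rw [skySMul_def]
    exact (congrArg (· • f h) (map_zero ((holPresheaf X).germ U.unop p h.down).hom)).trans (zero_smul _ _)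

/-- The underlying presheaf. -/
def skyAb : TopCat.Presheaf AddCommGrpCat.{0} (top X) where
  obj U := AddCommGrpCat.of (SkySec p A U.unop)
  map {U V} i := AddCommGrpCat.ofHom
    { toFun := fun (f : SkySec p A U.unop) h => f ⟨i.unop.le h.down⟩
      map_zero' := rfl
      map_add' := fun _ _ => rfl }

instance skyAbModule (U : (Opens (top X))ᵒᵖ) : Module ((holRing X).obj.obj U) ((skyAb p A).obj U) :=
  skyModule p A U

theorem skyAb_map_smul {U V : (Opens (top X))ᵒᵖ} (i : U ⟶ V) (r : (holRing X).obj.obj U) (f : (skyAb p A).obj U) :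
    (skyAb p A).map i (r • f) = (holRing X).obj.map i r • (skyAb p A).map i f := by
  funext h
  exact congrArg (· • (show SkySec p A U.unop from f) ⟨i.unop.le h.down⟩)
    (TopCat.Presheaf.germ_res_apply (holPresheaf X) i.unop p h.down r).symm

theorem skyAb_isSheaf : TopCat.Presheaf.IsSheaf (skyAb p A) := by
  classical
  rw [TopCat.Presheaf.isSheaf_iff_isSheafUniqueGluing]
  intro ι U sf hsf
  let g : SkySec p A (iSup U) := fun h =>
    (show SkySec p A (U (Opens.mem_iSup.mp h.down).choose) from sf _)
      ⟨(Opens.mem_iSup.mp h.down).choose_spec⟩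
  refine ⟨g, fun i => ?_, fun s hs => ?_⟩
  · funext ⟨h⟩
    have hI : p ∈ iSup U := Opens.mem_iSup.mpr ⟨i, h⟩
    exact congr_fun (hsf (Opens.mem_iSup.mp hI).choose i)
      ⟨⟨(Opens.mem_iSup.mp hI).choose_spec, h⟩⟩
  · funext h
    exact congr_fun (hs (Opens.mem_iSup.mp h.down).choose) ⟨(Opens.mem_iSup.mp h.down).choose_spec⟩

/-- The skyscraper module. -/
def skyObj : AnMod X :=
  { val := PresheafOfModules.ofPresheaf (R := (holRing X).obj) (skyAb p A) (fun _ _ i r f => skyAb_map_smul p A i r f)
    isSheaf := skyAb_isSheaf p A }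

variable {A}

/-- The value at the point. -/
def skyVal {U : Opens (top X)} (hp : p ∈ U) (f : Sec (skyObj p A) U) : A := (show SkySec p A U from f) ⟨hp⟩

/-- A section with prescribed value. -/
def skyMk {U : Opens (top X)} (f : p ∈ U → A) : Sec (skyObj p A) U := fun (h : PLift (p ∈ U)) => f h.down

theorem skyObj_ext {U : Opens (top X)} (f g : Sec (skyObj p A) U) (h : ∀ hp, skyVal p hp f = skyVal p hp g) :
    f = g := funext fun (h' : PLift (p ∈ U)) => h h'.down

theorem skyVal_smul {U : Opens (top X)} (hp : p ∈ U) (r : (holPresheaf X).obj (op U)) (f : Sec (skyObj p A) U) :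
    skyVal p hp (r • f) = (holPresheaf X).germ U p hp r • skyVal p hp f := rfl

variable (A)

/-- The counit on abelian groups. -/
def skyCounitAb : (psh (skyObj p A)).stalk p ⟶ AddCommGrpCat.of A :=
  colimit.desc _
    { pt := AddCommGrpCat.of A
      ι :=
        { app := fun U => AddCommGrpCat.ofHom
            { toFun := skyVal p U.unop.2
              map_zero' := rfl
              map_add' := fun _ _ => rfl }
          naturality := fun _ _ _ => rfl } }

theorem skyCounitAb_germ {U : Opens (top X)} (hp : p ∈ U) (f : Sec (skyObj p A) U) :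
    skyCounitAb p A ((psh (skyObj p A)).germ U p hp f) = skyVal p hp f := by
  have h : (psh (skyObj p A)).germ U p hp ≫ skyCounitAb p A = AddCommGrpCat.ofHom
      { toFun := skyVal p hp, map_zero' := rfl, map_add' := fun _ _ => rfl } :=
    colimit.ι_desc (F := (OpenNhds.inclusion p).op ⋙ psh (skyObj p A)) _ (op (⟨U, hp⟩ : OpenNhds p))
  exact congr($(h) f)

theorem skyCounitAb_bijective : Function.Bijective (skyCounitAb p A) := by
  constructor
  · intro a b h
    obtain ⟨U, hU, f, rfl⟩ := stalk_exists p (skyObj p A) a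
    obtain ⟨V, hV, g, rfl⟩ := stalk_exists p (skyObj p A) b
    rw [skyCounitAb_germ, skyCounitAb_germ] at h
    exact (psh (skyObj p A)).germ_ext (U ⊓ V) ⟨hU, hV⟩ (homOfLE inf_le_left) (homOfLE inf_le_right)
      (skyObj_ext p _ _ fun hW => h)
  · intro a
    exact ⟨(psh (skyObj p A)).germ ⊤ p trivial (skyMk p fun _ => a), skyCounitAb_germ p A _ _⟩

/-- The stalk of the skyscraper. -/
def skyCounit : (stalkF X p).obj (skyObj p A) ≅ A :=
  (LinearEquiv.ofBijective
    ({ toFun := skyCounitAb p A
       map_add' := map_add (skyCounitAb p A).hom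
       map_smul' := fun c m => by
        obtain ⟨U, hU, r, rfl⟩ := TopCat.Presheaf.germ_exist (holPresheaf X) c
        obtain ⟨V, hV, f, rfl⟩ := stalk_exists p (skyObj p A) m
        have hW : p ∈ U ⊓ V := ⟨hU, hV⟩
        rw [← TopCat.Presheaf.germ_res_apply (holPresheaf X) (homOfLE (inf_le_left : U ⊓ V ≤ U)) p hW r,
          ← TopCat.Presheaf.germ_res_apply (psh (skyObj p A)) (homOfLE (inf_le_right : U ⊓ V ≤ V)) p hW f,
          RingHom.id_apply, ← germ_smul p (skyObj p A) (U ⊓ V) hW, skyCounitAb_germ, skyCounitAb_germ, skyVal_smul] } :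
      (stalkF X p).obj (skyObj p A) →ₗ[hR p] A)
    (skyCounitAb_bijective p A)).toModuleIso

theorem skyCounit_germ {U : Opens (top X)} (hp : p ∈ U) (f : Sec (skyObj p A) U) :
    (skyCounit p A).hom.hom ((psh (skyObj p A)).germ U p hp f) = skyVal p hp f :=
  skyCounitAb_germ p A hp f

variable {A} {M : AnMod X}

/-- The transpose of a map out of a stalk. -/
def skyLift (a : (stalkF X p).obj M ⟶ A) : M ⟶ skyObj p A :=
  ⟨PresheafOfModules.homMk (M₁ := M.val) (M₂ := (skyObj p A).val)
    { app := fun U => AddCommGrpCat.ofHom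
        { toFun := fun m => skyMk p fun h => a.hom ((psh M).germ U.unop p h m)
          map_zero' := funext fun ⟨h⟩ =>
            (congrArg a.hom (map_zero ((psh M).germ U.unop p h).hom)).trans (map_zero a.hom)
          map_add' := fun m m' => funext fun ⟨h⟩ =>
            (congrArg a.hom (map_add ((psh M).germ U.unop p h).hom m m')).trans (map_add a.hom _ _) }
      naturality := fun U V i => by
        ext m
        funext ⟨h⟩
        exact congrArg a.hom (TopCat.Presheaf.germ_res_apply (psh M) i.unop p h m) }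
    (fun U r m => funext fun ⟨h⟩ => by
      exact (congrArg a.hom (germ_smul p M U.unop h r m)).trans (map_smul a.hom _ _))⟩

theorem skyLift_app (a : (stalkF X p).obj M ⟶ A) {U : Opens (top X)} (hp : p ∈ U) (m : Sec M U) :
    skyVal p hp (app (skyLift p a) U m) = a.hom ((psh M).germ U p hp m) := rfl

theorem skyLift_counit (a : (stalkF X p).obj M ⟶ A) :
    (stalkF X p).map (skyLift p a) ≫ (skyCounit p A).hom = a := by
  ext m
  obtain ⟨U, hU, s, rfl⟩ := stalk_exists p M m
  exact ((congrArg (skyCounit p A).hom.hom (stalkF_map_germ p (skyLift p a) U hU s)).trans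
    (skyCounit_germ p A hU _)).trans (skyLift_app p a hU s)

theorem sky_hom_ext {φ ψ : M ⟶ skyObj p A}
    (h : (stalkF X p).map φ ≫ (skyCounit p A).hom = (stalkF X p).map ψ ≫ (skyCounit p A).hom) : φ = ψ := by
  refine hom_ext' fun U m => skyObj_ext p _ _ fun hp => ?_
  have := congr($(h).hom ((psh M).germ U p hp m))
  exact ((skyCounit_germ p A hp (app φ U m)).symm.trans
    (congrArg (skyCounit p A).hom.hom (stalkF_map_germ p φ U hp m)).symm).trans
      (this.trans ((congrArg (skyCounit p A).hom.hom (stalkF_map_germ p ψ U hp m)).trans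
        (skyCounit_germ p A hp (app ψ U m))))

/-- `Hom(M_p, A) ≃ Hom(M, sky A)`. -/
def skyHomEquiv (M : AnMod X) (A : ModuleCat.{0} (hR p)) :
    ((stalkF X p).obj M ⟶ A) ≃ (M ⟶ skyObj p A) where
  toFun := skyLift p
  invFun φ := (stalkF X p).map φ ≫ (skyCounit p A).hom
  left_inv a := skyLift_counit p a
  right_inv φ := sky_hom_ext p (skyLift_counit p _)

theorem skyHomEquiv_naturality {M M' : AnMod X} {A : ModuleCat.{0} (hR p)}
    (f : M' ⟶ M) (g : (stalkF X p).obj M ⟶ A) :
    skyHomEquiv p M' A ((stalkF X p).map f ≫ g) = f ≫ skyHomEquiv p M A g :=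
  sky_hom_ext p (by
    rw [Functor.map_comp, Category.assoc]
    exact (skyLift_counit p _).trans (congrArg (_ ≫ ·) (skyLift_counit p g).symm))

/-- The skyscraper functor. -/
def skyF : ModuleCat.{0} (hR p) ⥤ AnMod X :=
  Adjunction.rightAdjointOfEquiv (F := stalkF X p) (fun M A => skyHomEquiv p M A)
    (fun M' M A f g => skyHomEquiv_naturality p f g)

/-- Stalks are left adjoint to skyscrapers. -/
def skyAdj : stalkF X p ⊣ skyF p :=
  Adjunction.adjunctionOfEquivRight (F := stalkF X p)
    (fun M A => skyHomEquiv p M A) (fun M' M A f g => skyHomEquiv_naturality p f g)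

theorem skyF_map_app {A B : ModuleCat.{0} (hR p)} (g : A ⟶ B) {U : Opens (top X)} (hp : p ∈ U)
    (f : Sec (skyObj p A) U) : skyVal p hp (app ((skyF p).map g) U f) = g.hom (skyVal p hp f) := by
  have e : (skyF p).map g = skyLift p ((skyCounit p A).hom ≫ g) := by
    change skyLift p (((stalkF X p).map (𝟙 _) ≫ (skyCounit p A).hom) ≫ g) = _
    rw [CategoryTheory.Functor.map_id, Category.id_comp]
  rw [e]
  exact (skyLift_app p ((skyCounit p A).hom ≫ g) hp f).trans (congrArg g.hom (skyCounit_germ p A hp f))

end AnModLib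

end
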