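import Groth.Agent.AnModLib.Stalk
import Groth.Agent.KFlatLib.Sky
import Groth.Agent.KFlatLib.StalkPull

/-!
# Stalks of analytifications

`(M^an)_p ≅ O^an_p ⊗ M_p`, naturally in `M`.
-/

set_option autoImplicit false
set_option linter.style.haveILetI false
set_option backward.isDefEq.respectTransparency.types false
set_option backward.isDefEq.respectTransparency false

open CategoryTheory CategoryTheory.Limits AlgebraicGeometry TopologicalSpace Opposite An

noncomputable section

namespace AnModLib

variable {X : Scheme.{0}} [X.Over SC] (p : Pts X)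

/-- The map of germs. -/
abbrev germMap : X.presheaf.stalk p.pt →+* hR (X := X) p := AnStalkLib.stalkHom p

theorem germMap_germ (U : X.Opens) (hp : p.pt ∈ U) (r : Γ(X, U)) :
    germMap p (X.presheaf.germ U p.pt hp r) =
      (holPresheaf X).germ ((baseF X).obj U) p hp ((anToScheme X).c.app (op U) r) :=
  congrArg (fun k => k r) (congrArg (fun k => (ConcreteCategory.hom k)) (PresheafedSpace.stalkMap_germ (anToScheme X) U p hp))

variable (A : ModuleCat.{0} (hR (X := X) p))

/-- Pushforward of a skyscraper to the skyscraper at the point of `X`. -/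
def pushSkyHom : (anPush X).obj (skyObj p A) ⟶
    KFlatLib.skyObj p.pt ((ModuleCat.restrictScalars (germMap p)).obj A) :=
  ⟨PresheafOfModules.homMk (M₁ := ((anPush X).obj (skyObj p A)).val)
    (M₂ := (KFlatLib.skyObj p.pt ((ModuleCat.restrictScalars (germMap p)).obj A)).val)
    { app := fun U => AddCommGrpCat.ofHom
        { toFun := fun g => g
          map_zero' := rfl
          map_add' := fun _ _ => rfl }
      naturality := fun _ _ _ => rfl }
    (fun U r g => funext fun ⟨h⟩ => by
      exact congrArg (· • skyVal p (A := A) (U := (baseF X).obj U.unop) h g)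
        (germMap_germ p U.unop h r).symm)⟩

/-- The inverse of `pushSkyHom`. -/
def pushSkyInv : KFlatLib.skyObj p.pt ((ModuleCat.restrictScalars (germMap p)).obj A) ⟶
    (anPush X).obj (skyObj p A) :=
  ⟨PresheafOfModules.homMk
    (M₁ := (KFlatLib.skyObj p.pt ((ModuleCat.restrictScalars (germMap p)).obj A)).val)
    (M₂ := ((anPush X).obj (skyObj p A)).val)
    { app := fun U => AddCommGrpCat.ofHom
        { toFun := fun g => g
          map_zero' := rfl
          map_add' := fun _ _ => rfl }
      naturality := fun _ _ _ => rfl }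
    (fun U r g => funext fun ⟨h⟩ => by
      exact congrArg (· • skyVal p (A := A) (U := (baseF X).obj U.unop) h g)
        (germMap_germ p U.unop h r))⟩

/-- `φ_* (sky A) ≅ sky (A|_{O_{X, p}})`. -/
def pushSkyObjIso : (anPush X).obj (skyObj p A) ≅
    KFlatLib.skyObj p.pt ((ModuleCat.restrictScalars (germMap p)).obj A) where
  hom := pushSkyHom p A
  inv := pushSkyInv p A
  hom_inv_id := hom_ext'' fun _ _ => rfl
  inv_hom_id := Scheme.Modules.hom_ext _ _ fun _ => rfl
where
  hom_ext'' {M N : X.Modules} {φ ψ : M ⟶ N} (h : ∀ U s, φ.app U s = ψ.app U s) : φ = ψ :=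
    Scheme.Modules.hom_ext _ _ fun U => by ext s; exact h U s

/-- `φ_* ∘ sky_p ≅ sky_{p} ∘ restriction of scalars`. -/
def pushSkyIso : skyF p ⋙ anPush X ≅ ModuleCat.restrictScalars (germMap p) ⋙ KFlatLib.skyMod p.pt :=
  NatIso.ofComponents (fun A => pushSkyObjIso p A) fun {A B} g => by
    refine Scheme.Modules.hom_ext _ _ fun U => ?_
    ext s
    refine KFlatLib.skyObj_ext p.pt _ _ _ fun hx => ?_
    exact (skyF_map_app p g (U := (baseF X).obj U) hx s).trans
      (KFlatLib.skyMod_map_app p.pt ((ModuleCat.restrictScalars (germMap p)).map g) hx _).symm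

/-- `(M^an)_p ≅ O^an_p ⊗ M_p`. -/
def stalkPullIso : analytify X ⋙ stalkF X p ≅
    DerSch.stalkFunctor X p.pt ⋙ ModuleCat.extendScalars.{0, 0, 0} (germMap p) :=
  ((conjugateIsoEquiv ((analytifyAdj X).comp (skyAdj p))
    ((KFlatLib.skyAdj p.pt).comp (ModuleCat.extendRestrictScalarsAdj (germMap p)))).symm
      (pushSkyIso p)).symm

end AnModLib

end
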